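import Cfsg.Agent.H549.DB.Cox
import Cfsg.Agent.H439.CC.Defs
import Cfsg.Agent.H617.EqD.CoL
import Cfsg.Agent.H635.SB.Tools

/-!
# The Weyl side of type `D_{n+2}` from type `B_{n+2}` (helper549, S4884, block D)

`wside_D_of` : `WSide csB (n + 2) JB` (type `B`) gives `WSide cs (n + 2) JD` (type `D`).
-/

set_option autoImplicit false
set_option linter.unusedSectionVars false
set_option linter.unusedVariables false

open Cfsg

namespace Cfsg.Agent.H549.DB

open Cfsg.Agent.Blocks Cfsg.Agent.Blocks.Basic Cfsg.Agent.Blocks.Local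
open Cfsg.Agent.Characters.Core Cfsg.Agent.Characters.Clifford Cfsg.Agent.H439.CC
open scoped ComplexConjugate

universe u v

section Two

variable {G : Type u} [Group G] [Fintype G]

/-- restriction to a normal subgroup of index two -/
theorem restrict_pair (N : Subgroup G) [N.Normal] [Fintype N] (hN2 : N.index = 2) {τ : G} (hτ : τ ∉ N)
    (χ : IrrCharacter G) (θ : IrrCharacter N) (hχ : classInner (fun n : N => (χ : G → ℂ) n) (θ : N → ℂ) ≠ 0) :
    ∃ c : ℕ, c ≠ 0 ∧ ((∀ y : N, (χ : G → ℂ) y = c * (θ : N → ℂ) y ∧ (θ : N → ℂ) (MulAut.conjNormal τ y) = (θ : N → ℂ) y) ∨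
      ∀ y : N, (χ : G → ℂ) y = c * ((θ : N → ℂ) y + (θ : N → ℂ) (MulAut.conjNormal τ y))) := by
  classical
  have hfin : Finite (IrrCharacter N) := finite_irr
  have := Fintype.ofFinite (IrrCharacter N)
  have hres : IsCharacter N (fun n : N => (χ : G → ℂ) n) := isCharacter_restrict N (isIrr_isCharacter χ.2)
  obtain ⟨c, hc⟩ := classInner_isNat hres (isIrr_isCharacter θ.2)
  have hc0 : c ≠ 0 := by
    rintro rfl
    rw [Nat.cast_zero] at hc
    exact hχ hc
  refine ⟨c, hc0, ?_⟩
  let θ' : IrrCharacter N := ⟨(θ : N → ℂ) ∘ (MulAut.conjNormal τ : MulAut N),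
    isIrr_comp (MulAut.conjNormal τ : MulAut N).toMonoidHom (MulAut.conjNormal τ : MulAut N).surjective θ.2⟩
  have hc' : classInner (fun n : N => (χ : G → ℂ) n) (θ' : N → ℂ) = c :=
    (classInner_restrict_conjNormal (isIrr_isClassFunction χ.2) _ τ).trans hc
  have hother : ∀ η : IrrCharacter N, classInner (fun n : N => (χ : G → ℂ) n) (η : N → ℂ) ≠ 0 → η = θ ∨ η = θ' := by
    intro η hη
    obtain ⟨g, hg⟩ := exists_conj_of_constituents N χ.2 θ.2 η.2 hχ hη
    by_cases hgN : g ∈ N
    · left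
      apply Subtype.ext
      rw [hg]
      funext y
      have h1 : (MulAut.conjNormal g : MulAut N) y = ⟨g, hgN⟩ * y * ⟨g, hgN⟩⁻¹ := Subtype.ext rfl
      rw [Function.comp_apply, h1]
      exact isIrr_isClassFunction θ.2 _ _
    · right
      apply Subtype.ext
      rw [hg]
      have h2 : g * τ⁻¹ ∈ N := by
        rw [Subgroup.mul_mem_iff_of_index_two hN2, inv_mem_iff]
        exact ⟨fun h => absurd h hgN, fun h => absurd h hτ⟩
      funext y
      have h1 : (MulAut.conjNormal g : MulAut N) y =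
          ⟨g * τ⁻¹, h2⟩ * (MulAut.conjNormal τ : MulAut N) y * ⟨g * τ⁻¹, h2⟩⁻¹ := by
        apply Subtype.ext
        show g * y * g⁻¹ = g * τ⁻¹ * (τ * y * τ⁻¹) * (g * τ⁻¹)⁻¹
        group
      show (θ : N → ℂ) ((MulAut.conjNormal g : MulAut N) y) = (θ : N → ℂ) ((MulAut.conjNormal τ : MulAut N) y)
      rw [h1]
      exact isIrr_isClassFunction θ.2 _ _
  have hsum := classFunction_eq_sum (isCharacter_isClassFunction hres)
  by_cases hθ : θ' = θ
  · left
    intro y
    constructor
    · have h1 := congrFun hsum y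
      rw [h1, Finset.sum_apply, Finset.sum_eq_single θ]
      · rw [Pi.smul_apply, hc, smul_eq_mul]
      · intro η _ hne
        have h2 : classInner (fun n : N => (χ : G → ℂ) n) (η : N → ℂ) = 0 := by
          by_contra hcon
          rcases hother η hcon with h | h
          · exact hne h
          · exact hne (h.trans hθ)
        rw [Pi.smul_apply, h2, zero_smul]
      · intro h
        exact absurd (Finset.mem_univ _) h
    · exact congrFun (congrArg Subtype.val hθ) y
  · right
    intro y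
    have h1 := congrFun hsum y
    rw [h1, Finset.sum_apply, ← Finset.sum_subset (Finset.subset_univ {θ, θ'}), Finset.sum_pair (Ne.symm hθ)]
    · rw [Pi.smul_apply, Pi.smul_apply, hc, hc', smul_eq_mul, smul_eq_mul, ← mul_add]
      rfl
    · intro η _ hne
      rw [Finset.mem_insert, Finset.mem_singleton, not_or] at hne
      have h2 : classInner (fun n : N => (χ : G → ℂ) n) (η : N → ℂ) = 0 := by
        by_contra hcon
        rcases hother η hcon with h | h
        · exact hne.1 h
        · exact hne.2 h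
      rw [Pi.smul_apply, h2, zero_smul]


end Two

section mu

variable {G : Type*} [Group G]

theorem mu_map {H : Type*} [Group H] {f : G →* H} (hf : Function.Injective f) (P : Subgroup G) (χ : H → ℂ) :
    mu (P.map f) χ = mu P (fun x => χ (f x)) := by
  unfold mu
  rw [Nat.card_congr (P.equivMapOfInjective f hf).toEquiv.symm]
  congr 1
  rw [← finsum_comp_equiv (P.equivMapOfInjective f hf).toEquiv]
  rfl

theorem mu_add [Finite G] (P : Subgroup G) (f g : G → ℂ) (c : ℂ) :
    mu P (fun x => c * (f x + g x)) = c * (mu P f + mu P g) := by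
  unfold mu
  have := Fintype.ofFinite P
  rw [finsum_eq_sum_of_fintype, finsum_eq_sum_of_fintype, finsum_eq_sum_of_fintype, ← mul_add, ← Finset.sum_add_distrib,
    ← Finset.mul_sum]
  ring

theorem mu_smul [Finite G] (P : Subgroup G) (f : G → ℂ) (c : ℂ) :
    mu P (fun x => c * f x) = c * mu P f := by
  unfold mu
  have := Fintype.ofFinite P
  rw [finsum_eq_sum_of_fintype, finsum_eq_sum_of_fintype, ← Finset.mul_sum]
  ring

end mu

theorem mem_of_coL {N : ℕ} : ∀ (ds : List ℕ), (∀ d ∈ ds, 1 ≤ d) → ds ≠ [] → ∀ K : Finset ℕ, coL ds K ≠ 0 → ds.sum ∈ K := by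
  intro ds
  induction ds with
  | nil => intro _ h; exact absurd rfl h
  | cons k ds ih =>
    intro hd _ K hK
    rw [coL] at hK
    split_ifs at hK with hk
    · by_cases hds : ds = []
      · subst hds
        simpa using hk
      · have h1 : coL ds ((K.filter fun x => k < x).image fun x => x - k) ≠ 0 := by
          intro h0
          rw [h0, mul_zero] at hK
          exact hK rfl
        have h2 := ih (fun d hd' => hd d (List.mem_cons_of_mem _ hd')) hds _ h1
        rw [Finset.mem_image] at h2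
        obtain ⟨x, hx, hxk⟩ := h2
        rw [Finset.mem_filter] at hx
        rw [List.sum_cons, ← hxk, show k + (x - k) = x by omega]
        exact hx.1
    · exact absurd rfl hK

theorem dig_pos {N d : ℕ} (h : d ∈ dig N) : 1 ≤ d := by
  unfold dig at h
  obtain ⟨i, -, rfl⟩ := List.mem_map.1 h
  exact Nat.one_le_two_pow

theorem sum_dig (N : ℕ) : (dig N).sum = N := by
  unfold dig
  exact Nat.sum_map_two_pow_bitIndices N

theorem mem_of_coL_dig {N : ℕ} (hN : N ≠ 0) {K : Finset ℕ} (h : coL (dig N) K ≠ 0) : N ∈ K := by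
  have h1 := mem_of_coL (N := N) (dig N) (fun d hd => dig_pos hd) (by
    intro h0
    apply hN
    rw [← sum_dig N, h0]
    rfl) K h
  rwa [sum_dig] at h1

section D

open Cfsg.Agent.Nodes.TypeD

variable {n : ℕ} {W : Type u} [Group W] (cs : CoxeterSystem (M n) W)
  {WB : Type v} [Group WB] (csB : CoxeterSystem (CoxeterMatrix.B (n + 2)) WB)

theorem JD_true {K : Finset ℕ} : (JD K true : Set (Fin (n + 2))) = JB K () := rfl

theorem JD_false {K : Finset ℕ} : (JD K false : Set (Fin (n + 2))) = sw n '' JB K () := by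
  ext i
  constructor
  · intro hi
    exact ⟨sw n i, hi, sw_sw i⟩
  · rintro ⟨j, hj, rfl⟩
    show ((sw n (sw n j) : Fin (n + 2)) : ℕ) + 1 ∉ K
    rw [sw_sw]
    exact hj

theorem WJ_true {K : Finset ℕ} (hK : n + 2 ∈ K) :
    (WJ cs (JD K true)).map (emb cs csB) = WJ csB (JB K ()) :=
  map_parabolic cs csB (fun h => h (by rw [val_lst]; exact hK))

theorem WJ_false {K : Finset ℕ} : WJ cs (JD K false) = (WJ cs (JD K true)).map (tau cs) := by
  unfold WJ
  rw [JD_false, map_tau]
  rfl

theorem tau_injective : Function.Injective (tau cs) := fun x y h => by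
  rw [← tau_tau cs x, h, tau_tau]

theorem wside_D_of [Finite W] (hB : WSide csB (n + 2) JB) : WSide cs (n + 2) JD := by
  classical
  intro φ hφ
  have hWB : Finite WB := finite_WB cs csB
  have := Fintype.ofFinite WB
  set N : Subgroup WB := (emb cs csB).range with hN
  have := Fintype.ofFinite N
  have hN2 : N.index = 2 := index_two cs csB
  have hNn : N.Normal := Subgroup.normal_of_index_eq_two hN2
  let e : W ≃* N := MonoidHom.ofInjective (emb_injective cs csB)
  let θ : IrrCharacter N := ⟨(φ : W → ℂ) ∘ e.symm, isIrr_comp e.symm.toMonoidHom e.symm.surjective φ.2⟩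
  have hθ : ∀ x : W, (θ : N → ℂ) (e x) = (φ : W → ℂ) x := fun x => by
    show (φ : W → ℂ) (e.symm (e x)) = _
    rw [MulEquiv.symm_apply_apply]
  have he : ∀ x : W, ((e x : N) : WB) = emb cs csB x := fun x => rfl
  have hτ : ∀ x : W, (MulAut.conjNormal (csB.simple (lst n)) (e x) : N) = e (tau cs x) := fun x => by
    apply Subtype.ext
    rw [MulAut.conjNormal_apply, he, he, emb_tau]
  obtain ⟨ψ, hψ⟩ := Over.exists_over N θ
  obtain ⟨c, hc0, hc⟩ := restrict_pair N hN2 (lst_notMem cs csB) ψ θ hψ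
  have hc0' : (c : ℂ) ≠ 0 := Nat.cast_ne_zero.2 hc0
  -- the sums
  have hsum : ∑ K ∈ (Finset.Icc 1 (n + 2)).powerset, ∑ j : Bool, (coL (dig (n + 2)) K : ℂ) * mu (WJ cs (JD K j)) φ =
      ∑ K ∈ (Finset.Icc 1 (n + 2)).powerset, (coL (dig (n + 2)) K : ℂ) *
        (mu (WJ cs (JD K true)) (φ : W → ℂ) + mu (WJ cs (JD K true)) (fun x => (φ : W → ℂ) (tau cs x))) := by
    refine Finset.sum_congr rfl fun K _ => ?_
    rw [Fintype.sum_bool, WJ_false, mu_map (tau_injective cs), ← mul_add]
  rw [hsum] at hφ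
  have hBs : ∀ K, (coL (dig (n + 2)) K : ℂ) * mu (WJ csB (JB K ())) (ψ : WB → ℂ) =
      (coL (dig (n + 2)) K : ℂ) * mu (WJ cs (JD K true)) (fun x => (ψ : WB → ℂ) (emb cs csB x)) := by
    intro K
    by_cases h0 : coL (dig (n + 2)) K = 0
    · rw [h0, Int.cast_zero, zero_mul, zero_mul]
    · rw [← WJ_true cs csB (mem_of_coL_dig (by omega) h0), mu_map (emb_injective cs csB)]
  have hone : (ψ : WB → ℂ) 1 = (charDegree (ψ : WB → ℂ) : ℂ) := irr_one_eq_charDegree ψ.2
  have hone' : (φ : W → ℂ) 1 = (charDegree (φ : W → ℂ) : ℂ) := irr_one_eq_charDegree φ.2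
  have hB' := hB ψ
  simp only [Fintype.sum_unique] at hB'
  have hu : (default : Unit) = () := rfl
  rw [Finset.sum_congr rfl fun K _ => hBs K] at hB'
  rcases hc with hc | hc
  · have h1 : ∀ x : W, (ψ : WB → ℂ) (emb cs csB x) = c * (φ : W → ℂ) x ∧ (φ : W → ℂ) (tau cs x) = (φ : W → ℂ) x := by
      intro x
      obtain ⟨h2, h3⟩ := hc (e x)
      rw [hτ, hθ, hθ] at h3
      rw [hθ, he] at h2
      exact ⟨h2, h3⟩
    have h2 : (fun x => (ψ : WB → ℂ) (emb cs csB x)) = fun x => (c : ℂ) * (φ : W → ℂ) x := funext fun x => (h1 x).1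
    have h3 : (fun x => (φ : W → ℂ) (tau cs x)) = (φ : W → ℂ) := funext fun x => (h1 x).2
    rw [h3] at hφ
    have h4 := hB' (by
      intro h0
      apply hφ
      have h5 : ∀ K, (coL (dig (n + 2)) K : ℂ) * mu (WJ cs (JD K true)) (fun x => (ψ : WB → ℂ) (emb cs csB x)) =
          (c : ℂ) * ((coL (dig (n + 2)) K : ℂ) * mu (WJ cs (JD K true)) (φ : W → ℂ)) := by
        intro K
        rw [h2, mu_smul]
        ring
      rw [Finset.sum_congr rfl fun K _ => h5 K, ← Finset.mul_sum] at h0
      have h6 := (mul_eq_zero.1 h0).resolve_left hc0'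
      have h7 : ∀ K, (coL (dig (n + 2)) K : ℂ) * (mu (WJ cs (JD K true)) (φ : W → ℂ) + mu (WJ cs (JD K true)) (φ : W → ℂ)) =
          2 * ((coL (dig (n + 2)) K : ℂ) * mu (WJ cs (JD K true)) (φ : W → ℂ)) := fun K => by ring
      rw [Finset.sum_congr rfl fun K _ => h7 K, ← Finset.mul_sum, h6, mul_zero])
    intro h5
    apply h4
    have h6 := (h1 1).1
    rw [map_one, hone, hone'] at h6
    have h7 : charDegree (ψ : WB → ℂ) = c * charDegree (φ : W → ℂ) := by exact_mod_cast h6
    rw [h7]
    exact Dvd.dvd.mul_left h5 _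
  · exfalso
    have h1 : ∀ x : W, (ψ : WB → ℂ) (emb cs csB x) = c * ((φ : W → ℂ) x + (φ : W → ℂ) (tau cs x)) := by
      intro x
      have h2 := hc (e x)
      rwa [hτ, hθ, hθ, he] at h2
    have h2 : (fun x => (ψ : WB → ℂ) (emb cs csB x)) = fun x => (c : ℂ) * ((φ : W → ℂ) x + (φ : W → ℂ) (tau cs x)) :=
      funext h1
    have h4 := hB' (by
      intro h0
      apply hφ
      have h5 : ∀ K, (coL (dig (n + 2)) K : ℂ) * mu (WJ cs (JD K true)) (fun x => (ψ : WB → ℂ) (emb cs csB x)) =
          (c : ℂ) * ((coL (dig (n + 2)) K : ℂ) * (mu (WJ cs (JD K true)) (φ : W → ℂ) +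
            mu (WJ cs (JD K true)) (fun x => (φ : W → ℂ) (tau cs x)))) := by
        intro K
        rw [h2, mu_add]
        ring
      rw [Finset.sum_congr rfl fun K _ => h5 K, ← Finset.mul_sum] at h0
      exact (mul_eq_zero.1 h0).resolve_left hc0')
    apply h4
    have h6 := h1 1
    rw [map_one, map_one, hone, hone'] at h6
    have h7 : charDegree (ψ : WB → ℂ) = c * (charDegree (φ : W → ℂ) + charDegree (φ : W → ℂ)) := by exact_mod_cast h6
    rw [h7, ← two_mul, ← mul_assoc, mul_comm c 2, mul_assoc]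
    exact dvd_mul_right _ _

end D

end Cfsg.Agent.H549.DB
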